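import Cfsg.Agent.H775.Sd.ChevElem_mg_m3
import Cfsg.Agent.ClosedRed.Inst
import Cfsg.Agent.KFacts.RgdRigid
import Cfsg.Agent.S1092
import Mathlib
import Cfsg.Agent.FastGrp
import Cfsg.Agent.Prune
set_option linter.all false

section
prune_inst 0x7f00000000000000000000000000000000000000000000000000000000000000000000000000000000000000000000000000000000000000000000000000000000000000000000000000000000000000003fffffffffffffffffffffffffffbeffbdffffffff

-- part: H491/Sd/FrTw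
section
set_option linter.all false
open scoped Cfsg.Agent.FastGrp

/-!
# The frame groups of `²E₆(q)`, `q` odd (helper491, S4579)

* `FrTw.noFix`, `FrTw.exists_frame`: for the root group datum `RGDTwE6.rgd` of type `F₄` there are four long roots `β a`
  and a subgroup `P` of order 8 of the Weyl group with `FrameData`, `MF R β P` of odd index, `Frames T (Fr R β P)`.
-/

set_option autoImplicit false
set_option linter.unusedSectionVars false

namespace Cfsg.Agent.H491.Sd.FrTw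

open CoxeterSystem Subgroup
open Cfsg.Agent.ChevalleyStructure.CoxeterGeom Cfsg.Agent.Tits.Roots Cfsg.Agent.Tits.Core
  Cfsg.Agent.Nodes.Reps Cfsg.Agent.Nodes.BNOf Cfsg.Agent.Nodes.Bruhat
open Cfsg.Lie Cfsg.Agent.ChevalleyStructure Cfsg.Agent.ChevalleyStructure.Elts
  Cfsg.Agent.ChevalleyStructure.TwE6Basic Cfsg.Agent.ChevalleyStructure.TwE6BN
open Cfsg.Agent.Nodes Cfsg.Agent.Nodes.RGDChev Cfsg.Agent.Nodes.RGDFold Cfsg.Agent.Nodes.RGDTwGen
open Cfsg.Agent.Nodes.RGDTwE6 (X nn isCartan foldData)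
open Cfsg.Agent.GpExc Cfsg.Agent.GpExc.TwNode
open Cfsg.Agent.Nodes.FreeTorus (LL)
open Cfsg.Agent.ClosedTwo.Torus Cfsg.Agent.ClosedTwo.Elem Cfsg.Agent.ClosedExc Cfsg.Agent.ClosedExc.Rk
  Cfsg.Agent.ClosedExc.Frame Cfsg.Agent.ClosedExc.FoldInst Cfsg.Agent.ClosedTw
open Cfsg.Agent.KFacts.RgdAut Cfsg.Agent.KFacts.RgdDiag
open Cfsg.Agent.H491.Sd Cfsg.Agent.H55.Sd

theorem x_inv {K : Type} [Field K] (s : ℕ) (t : K) : (x s t)⁻¹ = x s (-t) := by
  rw [inv_eq_iff_mul_eq_one]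
  show xG hE6 s t * xG hE6 s (-t) = 1
  rw [Elts.xG_add, add_neg_cancel, Elts.xG_zero]

variable {K : Type} [Field K] {q : ℕ} {φ : K →+* K} (hφ : ∀ x, φ x = x ^ q)

/-- the square of a reflection inverts the root groups of odd pairing -/
theorem inv_of_par {i j : Fin 4} (hp : par i j) (u : ↥(twistedE6 K q)) (hu : u ∈ X φ q (sr j)) :
    (nn hφ i)⁻¹ * (nn hφ i)⁻¹ * u * ((nn hφ i)⁻¹ * (nn hφ i)⁻¹)⁻¹ = u⁻¹ := by
  rw [mem_X_pos] at hu
  apply Subtype.ext
  rw [Subgroup.coe_mul, Subgroup.coe_mul, Subgroup.coe_inv, coe_nn_sq, Subgroup.coe_inv]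
  rcases TwE6BN.classes.{0} j with ⟨s, C⟩ | ⟨s, s', C⟩
  · have hs : s < chevE6.nroots := C.lt
    have h1 := hu.1
    rw [C.pos] at h1
    obtain ⟨t, ht⟩ := rs_single h1
    rw [ht, x_inv]
    have h5 := hI_conj (K := K) (RGDTwE6.J i) hs t
    rw [neg_one_zpow_odd (hp s (by rw [C.pos]; simp)), neg_one_mul] at h5
    exact h5
  · have hs : s < chevE6.nroots := C.lt
    have hs' : s' < chevE6.nroots := C.lt'
    obtain ⟨t, t', ht⟩ := C.mem_pos hu.1
    rw [ht, mul_inv_rev, x_inv, x_inv, C.comm1]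
    have h5 := hI_conj (K := K) (RGDTwE6.J i) hs t
    have h6 := hI_conj (K := K) (RGDTwE6.J i) hs' t'
    rw [neg_one_zpow_odd (hp s (by rw [C.pos]; simp)), neg_one_mul] at h5
    rw [neg_one_zpow_odd (hp s' (by rw [C.pos]; simp)), neg_one_mul] at h6
    have e : hI K (RGDTwE6.J i) * (x s t * x s' t') * (hI K (RGDTwE6.J i))⁻¹ =
        hI K (RGDTwE6.J i) * x s t * (hI K (RGDTwE6.J i))⁻¹ *
        (hI K (RGDTwE6.J i) * x s' t' * (hI K (RGDTwE6.J i))⁻¹) := by group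
    rw [e]
    exact congrArg₂ (· * ·) h5 h6

theorem sq_mem_T (i : Fin 4) : (nn hφ i)⁻¹ * (nn hφ i)⁻¹ ∈ RGDTwE6.T K q := by
  show _ ∈ (chevE6.diagonalSubgroup K ⊓ twistedE6 K q).subgroupOf (twistedE6 K q)
  rw [Subgroup.mem_subgroupOf, coe_nn_sq]
  refine ⟨hI_mem _, ?_⟩
  rw [← coe_nn_sq hφ]
  exact Subtype.property _

variable [Fintype K] (hqq : ∀ t : K, (t ^ q) ^ q = t) {W : Type*} [Group W] [Finite W]
  (cs : CoxeterSystem CoxeterMatrix.F₄ W) (p : ℕ) [Fact p.Prime] [CharP K p]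

include hφ hqq cs in
theorem noFix (hp : p ≠ 2) : NoFix cs isCartan (RGDTwE6.T K q) (X φ q) := by
  refine noFix_of_simple (RGDTwE6.rgd cs hφ hqq p) hp fun j => ?_
  have h : ∃ i, par i j := by
    fin_cases j
    exacts [⟨1, par10⟩, ⟨0, par01⟩, ⟨1, par12⟩, ⟨2, par23⟩]
  obtain ⟨i, hi⟩ := h
  exact ⟨_, sq_mem_T hφ i, inv_of_par hφ hi⟩

theorem card_W : Nat.card CoxeterMatrix.F₄.Group = 1152 := S1092.result (⟨4, CoxeterMatrix.F₄⟩, 1152) (by simp)

set_option backward.isDefEq.respectTransparency false in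
/-- the diagram symmetries of `F₄` -/
theorem perm_F4 : ∀ σ : Equiv.Perm (Fin 4), (∀ i j, CoxeterMatrix.F₄ (σ i) (σ j) = CoxeterMatrix.F₄ i j) →
    σ = 1 ∨ σ 0 = 3 := by
  decide +kernel

include hφ hqq in
/-- the short root groups -/
theorem card_X3 (hK : Fintype.card K = q ^ 2) : Nat.card (X φ q (sr 3)) = q ^ 2 := by
  have h1 : Nat.card (X φ q (sr 3)) =
      Nat.card {x : GL chevE6.Idx K // x ∈ TwE6BN.rs K (TwE6Basic.posE 3) ∧ x ∈ twistedE6 K q} := by
    refine Nat.card_congr ⟨fun g => ⟨(g.1 : GL chevE6.Idx K), ((mem_X_pos 3 g.1).1 g.2).1, g.1.2⟩,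
      fun x => ⟨⟨x.1, x.2.2⟩, (mem_X_pos 3 _).2 ⟨x.2.1, twisted_le_fix φ hφ hqq x.2.2⟩⟩,
      fun g => rfl, fun x => rfl⟩
  rw [h1]
  exact TwE6Card.card_pair φ hφ hqq hK pair3

theorem hat_one {I : Type*} [Fintype I] [DecidableEq I] {W : Type*} [Group W] {M : CoxeterMatrix I} (cs : CoxeterSystem M W)
    (hσ : ∀ i j, M ((1 : Equiv.Perm I) i) ((1 : Equiv.Perm I) j) = M i j) (w : W) : hat cs 1 hσ w = w := by
  have h1 : hat cs 1 hσ = MonoidHom.id W := by
    apply cs.ext_simple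
    intro i
    rw [hat_simple]; rfl
  rw [h1]; rfl

include cs hφ hqq p in
/-- automorphisms of the frame fix all root groups -/
theorem pm_of_diag (hq : 1 < q) (hK : Fintype.card K = q ^ 2) {γ : MulAut ↥(twistedE6 K q)}
    {σ : Equiv.Perm (Fin 4)} (D : Diag (RGDTwE6.T K q) (X φ q) γ σ) :
    PM cs isCartan (RGDTwE6.T K q) (X φ q) γ := by
  have R := RGDTwE6.rgd cs hφ hqq p
  have hσ := D.matrix R
  rcases perm_F4 σ hσ with rfl | h3
  · refine ⟨D.tor, Or.inl ?_⟩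
    rintro x ⟨w, i, rfl⟩ y
    have h1 := D.root R hσ w i y
    rw [hat_one, Equiv.Perm.one_apply] at h1
    exact h1
  · exfalso
    have h1 : (X φ q (sr 0)).map γ.toMonoidHom = X φ q (sr 3) := by
      apply map_eq_of_iff
      intro y
      have := D.pos 0 y
      rwa [h3] at this
    have h2 : Nat.card (X φ q (sr 3)) = Nat.card (X φ q (sr 0)) := by
      rw [← h1]
      exact (Nat.card_congr (Subgroup.equivMapOfInjective _ γ.toMonoidHom γ.injective).toEquiv).symm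
    rw [card_X3 hφ hqq hK, card_X0 hφ hqq hq hK] at h2
    have h4 : q * 1 < q * q := Nat.mul_lt_mul_of_pos_left hq (by omega)
    rw [pow_two] at h2
    omega

variable {ι : Type*} [Fintype ι] {β : ι → (Fin 4 → ℤ)} {P : Subgroup W}

include hφ hqq p in
/-- the roots of the certificate are long -/
theorem card_long (hq : 1 < q) (hK : Fintype.card K = q ^ 2) {x : Fin 4 → ℤ}
    (hx : ∃ w, x = rep cs isCartan w (sr 0)) : Nat.card (X φ q x) = q := by
  obtain ⟨w, rfl⟩ := hx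
  have R := RGDTwE6.rgd cs hφ hqq p
  obtain ⟨g, hg⟩ := exists_rp cs R.nsys w
  have h1 := R.conj_rp hg (isRoot_sr cs isCartan 0)
  have h3 : Nat.card (cj g (X φ q (sr 0))) = Nat.card (X φ q (sr 0)) :=
    Nat.card_congr ((X φ q (sr 0)).equivMapOfInjective _ (MulAut.conj g).injective).toEquiv.symm
  rw [← h1, h3, card_X0 hφ hqq hq hK]

/-- **The frame group of `²E₆(q)` has odd index.** -/
theorem odd_index_tw (hq : IsPrimePow q) (hK : Fintype.card K = q ^ 2) (ho : Odd q)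
    (F : FrameData cs isCartan (X φ q) β P) (hι : Fintype.card ι = 4) (hP : Nat.card P = 8)
    (hlong : ∀ a, ∃ w, β a = rep cs isCartan w (sr 0)) :
    Odd (MF (RGDTwE6.rgd cs hφ hqq p) β P).index := by
  have hKo : Odd (Fintype.card K) := by rw [hK]; exact ho.pow
  have h2 : (2 : K) ≠ 0 := SL.two_ne hKo
  have hN := nodes hφ hqq hq.one_lt hK ho h2
  have : Finite ↥(twistedE6 K q) := inferInstance
  refine odd_index (RGDTwE6.rgd cs hφ hqq p) F (RGDTwE6.G1_eq_top cs hφ hqq) (fun i => (hN i).2) ?_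
  intro m hm
  have hq3 : 3 ≤ q := by
    have h1 := hq.two_le
    rcases ho with ⟨k, hk⟩
    omega
  have hT : Nat.gcd 3 (q + 1) * Nat.card (RGDTwE6.T K q) = (q - 1) ^ 4 * (q + 1) ^ 2 := by
    rw [← S1102.result hq hK]
    congr 1
    exact Nat.card_congr (Subgroup.subgroupOfEquivOfLe inf_le_right).toEquiv
  have h3 := Orders.ord_TwE6 ho hq3 (Nat.gcd_pos_of_pos_left _ (by norm_num : 0 < 3)).ne'
    (S1066.result hq hK) hT m hm
  rw [hP, Finset.prod_congr rfl fun a _ => by rw [card_long hφ hqq cs p hq.one_lt hK (hlong a)], Finset.prod_const,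
    Finset.card_univ, hι]
  exact h3

/-- **The frame groups of `²E₆(q)` over the torus.** -/
theorem frames_tw (hq : IsPrimePow q) (hK : Fintype.card K = q ^ 2) (ho : Odd q) (hW : Nat.card W = 1152)
    (F : FrameData cs isCartan (X φ q) β P) (hι : Fintype.card ι = 4) (hP : Nat.card P = 8)
    (hlong : ∀ a, ∃ w, β a = rep cs isCartan w (sr 0)) :
    Frames (RGDTwE6.T K q) (Fr (RGDTwE6.rgd cs hφ hqq p) β P) := by
  have hp2 : p ≠ 2 := by
    rintro rfl
    have h1 : (2 : K) = 0 := CharTwo.two_eq_zero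
    have hKo : Odd (Fintype.card K) := by rw [hK]; exact ho.pow
    exact SL.two_ne hKo h1
  have hG : GG cs isCartan (RGDTwE6.T K q) (X φ q) = ⊤ :=
    Cfsg.Agent.KFacts.RgdRigid.GG_eq_top (RGDTwE6.G1_eq_top cs hφ hqq)
  refine frames (RGDTwE6.rgd cs hφ hqq p) hG (noFix hφ hqq cs p hp2) F ?_
    (odd_index_tw hφ hqq cs p hq hK ho F hι hP hlong) ?_
  · intro m hm
    rw [hι, hP]
    rw [hW] at hm
    have h1 : (2 ^ 4 * 8 : ℕ) = 2 ^ 7 := by norm_num
    rw [h1]
    refine pow_dvd_pow 2 ?_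
    by_contra hcon
    have h2 : 2 ^ 8 ∣ 1152 := (pow_dvd_pow 2 (by omega)).trans hm
    exact absurd h2 (by norm_num)
  · intro γ σ D
    refine ⟨1, one_mem _, ?_⟩
    rw [map_one, one_mul]
    exact pm_of_diag hφ hqq cs p hq.one_lt hK D

end Cfsg.Agent.H491.Sd.FrTw
end

-- part: H311/K547/Val
section
set_option linter.all false
open scoped Cfsg.Agent.FastGrp

/-!
# S4547: 2-parts of the orders of the unitary groups (helper311)

`E2 a b` : the natural numbers `a`, `b` have the same 2-part.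
-/

set_option autoImplicit false

namespace Cfsg.Agent.H311.K547

open Nat

/-- the 2-parts agree -/
def E2 (a b : ℕ) : Prop := ∃ u v : ℕ, Odd u ∧ Odd v ∧ a * u = b * v

theorem E2.refl (a : ℕ) : E2 a a := ⟨1, 1, odd_one, odd_one, rfl⟩

theorem E2.symm {a b : ℕ} (h : E2 a b) : E2 b a := by
  obtain ⟨u, v, hu, hv, h⟩ := h
  exact ⟨v, u, hv, hu, h.symm⟩

theorem E2.trans {a b c : ℕ} (h : E2 a b) (h' : E2 b c) : E2 a c := by
  obtain ⟨u, v, hu, hv, h⟩ := h
  obtain ⟨u', v', hu', hv', h'⟩ := h'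
  refine ⟨u * u', v * v', hu.mul hu', hv.mul hv', ?_⟩
  calc a * (u * u') = (a * u) * u' := by ring
    _ = (b * u') * v := by rw [h]; ring
    _ = c * (v * v') := by rw [h']; ring

theorem E2.mul {a b c d : ℕ} (h : E2 a b) (h' : E2 c d) : E2 (a * c) (b * d) := by
  obtain ⟨u, v, hu, hv, h⟩ := h
  obtain ⟨u', v', hu', hv', h'⟩ := h'
  refine ⟨u * u', v * v', hu.mul hu', hv.mul hv', ?_⟩
  calc a * c * (u * u') = (a * u) * (c * u') := by ring
    _ = (b * v) * (d * v') := by rw [h, h']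
    _ = _ := by ring

theorem E2.mul_odd {a u : ℕ} (hu : Odd u) : E2 (a * u) a := ⟨1, u, odd_one, hu, by ring⟩

theorem E2.odd_mul {a u : ℕ} (hu : Odd u) : E2 (u * a) a := ⟨1, u, odd_one, hu, by ring⟩

theorem E2.prod {ι : Type*} {s : Finset ι} {f g : ι → ℕ} (h : ∀ i ∈ s, E2 (f i) (g i)) :
    E2 (∏ i ∈ s, f i) (∏ i ∈ s, g i) := by
  classical
  induction s using Finset.induction_on with
  | empty => exact E2.refl _
  | insert a s ha ih =>
    rw [Finset.prod_insert ha, Finset.prod_insert ha]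
    exact (h a (Finset.mem_insert_self _ _)).mul (ih fun i hi => h i (Finset.mem_insert_of_mem hi))

theorem E2.odd_of_mul {a b t : ℕ} (ha : b ≠ 0) (h : a = b * t) (h2 : E2 a b) : Odd t := by
  obtain ⟨u, v, hu, hv, h3⟩ := h2
  rw [h, mul_assoc] at h3
  have h4 := Nat.eq_of_mul_eq_mul_left (Nat.pos_of_ne_zero ha) h3
  rw [← h4, Nat.odd_mul] at hv
  exact hv.1

theorem e2_of_emultiplicity {a b : ℕ} (ha : a ≠ 0) (hb : b ≠ 0)
    (h : emultiplicity (2 : ℤ) a = emultiplicity (2 : ℤ) b) : E2 a b := by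
  obtain ⟨k, a', ha', rfl⟩ := Nat.exists_eq_two_pow_mul_odd ha
  obtain ⟨l, b', hb', rfl⟩ := Nat.exists_eq_two_pow_mul_odd hb
  have key : ∀ (k m : ℕ), Odd m → emultiplicity (2 : ℤ) ((2 ^ k * m : ℕ) : ℤ) = k := by
    intro k m hm
    apply emultiplicity_eq_of_dvd_of_not_dvd
    · push_cast
      exact dvd_mul_right _ _
    · push_cast
      rw [pow_succ]
      intro h
      have h1 := (mul_dvd_mul_iff_left (pow_ne_zero k (two_ne_zero (α := ℤ)))).1 h
      have h2 : (2 : ℕ) ∣ m := by exact_mod_cast h1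
      rw [← Nat.not_even_iff_odd, even_iff_two_dvd] at hm
      exact hm h2
  rw [key k a' ha', key l b' hb'] at h
  have h1 : k = l := by exact_mod_cast h
  subst h1
  exact ⟨b', a', hb', ha', by ring⟩

theorem e2_pow {x y : ℤ} (h4 : 4 ∣ x - y) (hx : ¬ 2 ∣ x) (k : ℕ) {a b : ℕ} (ha : (a : ℤ) = x ^ k - y ^ k)
    (hb : (b : ℤ) = (x - y) * k) (ha0 : a ≠ 0) (hb0 : b ≠ 0) : E2 a b := by
  apply e2_of_emultiplicity ha0 hb0
  rw [ha, hb, emultiplicity_mul Int.prime_two]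
  exact Int.two_pow_sub_pow' k h4 hx

theorem e2_pow_odd {x y : ℤ} (h2 : 2 ∣ x - y) (hx : ¬ 2 ∣ x) {k : ℕ} (hk : Odd k) {a b : ℕ}
    (ha : (a : ℤ) = x ^ k - y ^ k)
    (hb : (b : ℤ) = x - y) (ha0 : a ≠ 0) (hb0 : b ≠ 0) : E2 a b := by
  apply e2_of_emultiplicity ha0 hb0
  rw [ha, hb]
  refine emultiplicity_pow_sub_pow_of_prime Int.prime_two h2 hx fun h => ?_
  have h3 : (2 : ℕ) ∣ k := by exact_mod_cast h
  rw [← Nat.not_even_iff_odd, even_iff_two_dvd] at hk
  exact hk h3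

/-- the factors of the order of `GU_n(q)` -/
def gf (q i : ℕ) : ℕ := if Even i then q ^ (i + 1) + 1 else q ^ (i + 1) - 1

theorem gf_cast {q : ℕ} (hq : 1 ≤ q) (i : ℕ) : ((gf q i : ℕ) : ℤ) = (q : ℤ) ^ (i + 1) - (-1) ^ (i + 1) := by
  rw [gf]
  by_cases h : Even i
  · rw [if_pos h, h.add_one.neg_one_pow]
    push_cast
    ring
  · rw [if_neg h]
    have h1 : Even (i + 1) := by
      rw [Nat.not_even_iff_odd] at h
      exact h.add_one
    rw [h1.neg_one_pow, Nat.cast_sub (Nat.one_le_pow _ _ hq)]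
    push_cast
    ring

theorem gf_ne {q : ℕ} (hq : 2 ≤ q) (i : ℕ) : gf q i ≠ 0 := by
  rw [gf]
  split_ifs
  · omega
  · have := Nat.one_lt_pow (n := i + 1) (by omega) (show 1 < q by omega)
    omega

theorem odd_int {q : ℕ} (hq : Odd q) : ¬ (2 : ℤ) ∣ q := by
  intro h
  have h1 : (2 : ℕ) ∣ q := by exact_mod_cast h
  rw [← Nat.not_even_iff_odd, even_iff_two_dvd] at hq
  exact hq h1

/-- `4 ∣ q + 1` -/
theorem e2_one {q : ℕ} (hq : 2 ≤ q) (h4 : 4 ∣ q + 1) (n : ℕ) :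
    E2 (∏ i ∈ Finset.range n, gf q i) ((q + 1) ^ n * n !) := by
  have hodd : Odd q := by
    rw [Nat.odd_iff]
    omega
  have h1 : (q + 1) ^ n * n ! = ∏ i ∈ Finset.range n, ((q + 1) * (i + 1)) := by
    rw [Finset.prod_mul_distrib, Finset.prod_const, Finset.card_range, Finset.prod_range_add_one_eq_factorial]
  rw [h1]
  refine E2.prod fun i _ => ?_
  refine e2_pow (x := q) (y := -1) ?_ (odd_int hodd) (i + 1) (gf_cast (by omega) i) ?_ (gf_ne hq i) ?_
  · rw [sub_neg_eq_add]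
    exact_mod_cast h4
  · push_cast
    ring
  · exact Nat.mul_ne_zero (by omega) (by omega)

/-- `4 ∣ q - 1` -/
theorem e2_two {q : ℕ} (hq : 2 ≤ q) (h4 : q % 4 = 1) (m : ℕ) :
    E2 (∏ i ∈ Finset.range (2 * m), gf q i) ((q ^ 2 - 1) ^ m * (2 ^ m * m !)) ∧
    E2 (∏ i ∈ Finset.range (2 * m + 1), gf q i) ((q ^ 2 - 1) ^ m * (q + 1) * (2 ^ m * m !)) := by
  have hodd : Odd q := by
    rw [Nat.odd_iff]
    omega
  have hq1 : 1 ≤ q ^ 2 := Nat.one_le_pow _ _ (by omega)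
  have hsq : 4 ≤ q ^ 2 := by
    calc 4 = 2 ^ 2 := by norm_num
      _ ≤ q ^ 2 := Nat.pow_le_pow_left hq 2
  have he : ∀ j, E2 (gf q (2 * j)) (q + 1) := by
    intro j
    refine e2_pow_odd (x := q) (y := -1) ?_ (odd_int hodd) (k := 2 * j + 1) ⟨j, rfl⟩
      (gf_cast (by omega) (2 * j)) ?_ (gf_ne hq _) (by omega)
    · rw [sub_neg_eq_add]
      have : 2 ∣ q + 1 := by omega
      exact_mod_cast this
    · push_cast
      ring
  have ho : ∀ j, E2 (gf q (2 * j + 1)) ((q ^ 2 - 1) * (j + 1)) := by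
    intro j
    refine e2_pow (x := (q : ℤ) ^ 2) (y := 1) ?_ ?_ (j + 1) ?_ ?_ (gf_ne hq _) ?_
    · have h1 : (4 : ℤ) ∣ q - 1 := by
        have h2 : 4 ∣ q - 1 := by omega
        have h3 : ((q - 1 : ℕ) : ℤ) = q - 1 := by rw [Nat.cast_sub (by omega)]; simp
        rw [← h3]
        exact_mod_cast h2
      obtain ⟨c, hc⟩ := h1
      exact ⟨c * (q + 1), by linear_combination (q + 1 : ℤ) * hc⟩
    · intro h
      exact odd_int hodd (Int.prime_two.dvd_of_dvd_pow h)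
    · rw [gf_cast (by omega), one_pow, ← pow_mul, show 2 * (j + 1) = 2 * j + 1 + 1 by ring]
      have : Even (2 * j + 1 + 1) := ⟨j + 1, by ring⟩
      rw [this.neg_one_pow]
    · rw [Nat.cast_mul, Nat.cast_sub hq1]
      push_cast
      ring
    · exact Nat.mul_ne_zero (by omega) (by omega)
  have h2 : E2 (q + 1) 2 := by
    obtain ⟨c, hc⟩ : ∃ c, q = 4 * c + 1 := ⟨q / 4, by omega⟩
    refine ⟨1, 2 * c + 1, odd_one, ⟨c, rfl⟩, ?_⟩
    rw [hc]; ring
  have hmain : E2 (∏ i ∈ Finset.range (2 * m), gf q i) ((q ^ 2 - 1) ^ m * (2 ^ m * m !)) := by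
    induction m with
    | zero => simpa using E2.refl 1
    | succ m ih =>
      have e1 : ∏ i ∈ Finset.range (2 * (m + 1)), gf q i =
          (∏ i ∈ Finset.range (2 * m), gf q i) * (gf q (2 * m) * gf q (2 * m + 1)) := by
        rw [show 2 * (m + 1) = 2 * m + 1 + 1 by ring, Finset.prod_range_succ, Finset.prod_range_succ]
        ring
      have e2 : (q ^ 2 - 1) ^ (m + 1) * (2 ^ (m + 1) * (m + 1)!) =
          ((q ^ 2 - 1) ^ m * (2 ^ m * m !)) * (2 * ((q ^ 2 - 1) * (m + 1))) := by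
        rw [Nat.factorial_succ]
        ring
      rw [e1, e2]
      exact ih.mul (((he m).trans h2).mul (ho m))
  refine ⟨hmain, ?_⟩
  rw [Finset.prod_range_succ]
  have e3 : (q ^ 2 - 1) ^ m * (q + 1) * (2 ^ m * m !) = ((q ^ 2 - 1) ^ m * (2 ^ m * m !)) * (q + 1) := by ring
  rw [e3]
  exact hmain.mul (he m)

end Cfsg.Agent.H311.K547

private theorem dce_641c802e74b4 : _root_.True := by
  try have : _root_.True := by simp only [_root_.Cfsg.Agent.H311.K547.gf.eq_1]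
  exact _root_.True.intro
end

-- part: H491/Sd/FrInst
section
set_option linter.all false

/-!
# The frames of `E₆(q)` and `²E₆(q)`, `q` odd, with explicit data (helper491, S4579)

* `βf l c`, `Gm cs c` : the frame and the permutations of the certificate `c`;
* `E6.frameData`, `E6.frames` : `chevE6.group K`;
* `TwE6.frameData`, `TwE6.frames` : `twistedE6 K q`.
-/

set_option autoImplicit false
set_option linter.unusedSectionVars false
set_option maxRecDepth 100000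

namespace Cfsg.Agent.H491.Sd.FrInst

open CoxeterSystem Cfsg Cfsg.Lie Cfsg.Agent.ChevalleyStructure Cfsg.Agent.ChevalleyStructure.CoxeterGeom
  Cfsg.Agent.ChevalleyStructure.Elts Cfsg.Agent.Tits.Roots Cfsg.Agent.Nodes.Reps Cfsg.Agent.Nodes.BNOf
  Cfsg.Agent.Nodes.Bruhat Cfsg.Agent.Nodes.RGDChev Cfsg.Agent.ClosedExc Cfsg.Agent.ClosedExc.Frame
  Cfsg.Agent.ClosedExc.WFr Cfsg.Agent.ClosedExc.Chev Cfsg.Agent.ChevalleyStructure.NPerm
  Cfsg.Agent.ChevalleyStructure.CoxeterGeomTypes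
open Cfsg.Agent.Nodes Cfsg.Agent.ClosedExc.Families
open Cfsg.Agent.Nodes.FreeTorus (LL)
open Cfsg.Agent.H491.Sd Cfsg.Agent.H55.Sd Cfsg.Agent.H775.Sd.ChevElem Cfsg.Agent.H335.Sd.Frame

/-- the frame of a certificate -/
abbrev βf (l : ℕ) (c : Cert) : Fin 4 → (Fin l → ℤ) := fun a => toV l (c.T.getD a [])

section E6

variable (K : Type) [Field K] {W : Type*} [Group W] (cs : CoxeterSystem CoxeterMatrix.E₆ W)

theorem frameData_e6 : FrameData cs isType_E6.isCartan (XX chevE6 6 K) (βf 6 cE6) (Subgroup.closure (Gm cs cE6)) := by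
  obtain ⟨f1, f2, f3, -⟩ := wframe' cs isType_E6.isCartan tabE6 okE6
  exact ⟨fun a => f1 a a.2, fun a b hab => lc_of_orth isType_E6 K
    (orth_of (orth1E6 a a.2 b b.2 fun e => hab (Fin.ext e))), f2, f3⟩

theorem card_P_e6 : Nat.card ↥(Subgroup.closure (Gm cs cE6)) = 8 :=
  (wframe' cs isType_E6.isCartan tabE6 okE6).2.2.2

variable [Fintype K] (p : ℕ) [Fact p.Prime] [CharP K p]

end E6

section TwE6

open Cfsg.Agent.Nodes.RGDTwE6 (X nn isCartan foldData)

variable {K : Type} [Field K] {q : ℕ} {φ : K →+* K} (hφ : ∀ x, φ x = x ^ q) (hqq : ∀ t : K, (t ^ q) ^ q = t)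
  {W : Type*} [Group W] (cs : CoxeterSystem CoxeterMatrix.F₄ W)

theorem frameData_tw : FrameData cs isCartan (X φ q) (βf 4 cTwE6) (Subgroup.closure (Gm cs cTwE6)) := by
  obtain ⟨f1, f2, f3, -⟩ := wframe' cs isCartan tabTwE6 okTwE6
  exact ⟨fun a => f1 a a.2, fun a b hab => ClosedTw.lc_lst (orth1TwE6 a a.2 b b.2 fun e => hab (Fin.ext e)), f2, f3⟩

theorem card_P_tw : Nat.card ↥(Subgroup.closure (Gm cs cTwE6)) = 8 :=
  (wframe' cs isCartan tabTwE6 okTwE6).2.2.2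

theorem long_tw (a : Fin 4) : ∃ w, βf 4 cTwE6 a = rep cs isCartan w (sr 0) := by
  obtain ⟨b, hb⟩ := exists_ne a
  exact (long_of_mem cs (orth1TwE6 a a.2 b b.2 fun e => hb (Fin.ext e).symm)).1

variable [Fintype K] (p : ℕ) [Fact p.Prime] [CharP K p]

end TwE6

end Cfsg.Agent.H491.Sd.FrInst
end
end
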